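import Mathlib
import Cfsg.Agent.Lib.Fix4.Basic
import Cfsg.Agent.Lib.Invol.Basic

/-!
# Doubly transitive groups with an involution whose centralizer has constant fixity: counting
-/

set_option autoImplicit false
set_option linter.unusedSectionVars false
set_option linter.style.haveILetI false

namespace Cfsg.Lib.ConstFix

open MulAction Subgroup Cfsg.Lib

universe u w

/-- The stabilizer of two points. -/
abbrev pr (G : Type u) [Group G] {Ω : Type w} [MulAction G Ω] (a b : Ω) : Subgroup G :=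
  stabilizer G a ⊓ stabilizer G b

theorem mem_pr {G : Type u} [Group G] {Ω : Type w} [MulAction G Ω] {a b : Ω} {g : G} :
    g ∈ pr G a b ↔ g • a = a ∧ g • b = b := Iff.rfl

variable {G : Type u} [Group G] [Finite G] {Ω : Type w} [Finite Ω] [MulAction G Ω] [FaithfulSMul G Ω]

/-- The hypothesis of constant fixity. -/
structure Hyp (G : Type u) [Group G] (Ω : Type w) [MulAction G Ω] (t : G) (i : ℕ) : Prop where
  two : ∀ {p q r s : Ω}, p ≠ q → r ≠ s → ∃ g : G, g • p = r ∧ g • q = s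
  inv : orderOf t = 2
  const : ∀ g : G, Commute g t → g ≠ 1 → (fixedBy Ω g).ncard = i

/-- The elements taking `t` into a set of conjugates. -/
theorem conj_count (t : G) (p : G → Prop) :
    Nat.card {g : G // p (g * t * g⁻¹)} =
      {u : G | IsConj t u ∧ p u}.ncard * Nat.card (centralizer ({t} : Set G)) := by
  classical
  let f : {g : G // p (g * t * g⁻¹)} → {u : G | IsConj t u ∧ p u} := fun g =>
    ⟨g.1 * t * g.1⁻¹, isConj_iff.2 ⟨g.1, rfl⟩, g.2⟩
  have e : ∀ u, {g : {g : G // p (g * t * g⁻¹)} // f g = u} ≃ centralizer ({t} : Set G) := fun u =>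
    let h := (isConj_iff.1 u.2.1).choose
    have hh : h * t * h⁻¹ = (u : G) := (isConj_iff.1 u.2.1).choose_spec
    { toFun := fun g => ⟨h⁻¹ * g.1.1, mem_centralizer_singleton_iff.2 (by
        have h1 : g.1.1 * t * g.1.1⁻¹ = h * t * h⁻¹ := (congrArg Subtype.val g.2).trans hh.symm
        calc h⁻¹ * g.1.1 * t = h⁻¹ * (g.1.1 * t * g.1.1⁻¹) * g.1.1 := by group
          _ = t * (h⁻¹ * g.1.1) := by rw [h1]; group)⟩
      invFun := fun c => ⟨⟨h * c.1, by
        have hc := mem_centralizer_singleton_iff.1 c.2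
        rw [show h * c.1 * t * (h * c.1)⁻¹ = h * (c.1 * t * (c.1)⁻¹) * h⁻¹ by group, hc,
          mul_inv_cancel_right, hh]
        exact u.2.2⟩, Subtype.ext (by
        have hc := mem_centralizer_singleton_iff.1 c.2
        show h * c.1 * t * (h * c.1)⁻¹ = _
        rw [show h * c.1 * t * (h * c.1)⁻¹ = h * (c.1 * t * (c.1)⁻¹) * h⁻¹ by group, hc,
          mul_inv_cancel_right, hh])⟩
      left_inv := fun g => Subtype.ext (Subtype.ext (mul_inv_cancel_left _ _))
      right_inv := fun c => Subtype.ext (inv_mul_cancel_left _ _) }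
  rw [Nat.card_congr ((Equiv.sigmaFiberEquiv f).symm.trans ((Equiv.sigmaCongrRight e).trans
    (Equiv.sigmaEquivProd _ _))), Nat.card_prod, Nat.card_coe_set_eq]

theorem ncard_offDiag (S : Set Ω) :
    {x : Ω × Ω | x.1 ∈ S ∧ x.2 ∈ S ∧ x.1 ≠ x.2}.ncard = S.ncard * (S.ncard - 1) := by
  classical
  letI := Fintype.ofFinite Ω
  rw [Set.ncard_eq_toFinset_card' S, Set.ncard_eq_toFinset_card',
    show Set.toFinset {x : Ω × Ω | x.1 ∈ S ∧ x.2 ∈ S ∧ x.1 ≠ x.2} = S.toFinset.offDiag by ext x; simp,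
    Finset.offDiag_card, Nat.mul_sub_one]

/-- The number of fixed points summed over a subgroup. -/
theorem sum_fixed (S : Subgroup G) [Fintype S] [Fintype Ω] :
    ∑ g : S, (fixedBy Ω (g : G)).ncard = ∑ x : Ω, Nat.card (Fix4.st S x) := by
  classical
  have h := Finset.sum_card_bipartiteAbove_eq_sum_card_bipartiteBelow
    (fun (g : S) (x : Ω) => (g : G) • x = x) (s := Finset.univ) (t := Finset.univ)
  have e1 : ∀ g : S, (Finset.univ.bipartiteAbove (fun (g : S) (x : Ω) => (g : G) • x = x) g).card =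
      (fixedBy Ω (g : G)).ncard := fun g => by
    rw [Set.ncard_eq_toFinset_card']
    congr 1
    ext x
    simp [mem_fixedBy]
  have e2 : ∀ x : Ω, (Finset.univ.bipartiteBelow (fun (g : S) (x : Ω) => (g : G) • x = x) x).card =
      Nat.card (Fix4.st S x) := fun x => by
    rw [Finset.bipartiteBelow, ← Fintype.card_subtype, ← Nat.card_eq_fintype_card]
    exact Nat.card_congr
      { toFun := fun g => ⟨g.1.1, g.1.2, g.2⟩
        invFun := fun g => ⟨⟨g.1, g.2.1⟩, g.2.2⟩
        left_inv := fun _ => rfl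
        right_inv := fun _ => rfl }
  simp only [e1, e2] at h
  exact h

/-- The sum of fixed-point numbers is a multiple of the order. -/
theorem dvd_sum_fixed (S : Subgroup G) [Fintype S] :
    Nat.card S ∣ ∑ g : S, (fixedBy Ω (g : G)).ncard := by
  have h := Nat.card_congr (MulAction.sigmaFixedByEquivOrbitsProdGroup (G := S) (X := Ω))
  rw [Nat.card_sigma, Nat.card_prod] at h
  refine Dvd.intro_left _ (Eq.trans h.symm (Finset.sum_congr rfl fun g _ => ?_))
  rw [Nat.card_coe_set_eq]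
  rfl

namespace Hyp

variable {t : G} {i : ℕ}

theorem ne_one (H : Hyp G Ω t i) : t ≠ 1 := Invol.ne_one H.inv

theorem fix_t (H : Hyp G Ω t i) : (fixedBy Ω t).ncard = i := H.const t (Commute.refl t) H.ne_one

theorem tsym (H : Hyp G Ω t i) (x : Ω) : t • t • x = x := by
  rw [smul_smul, Invol.inv_mul_self H.inv, one_smul]

theorem moved (H : Hyp G Ω t i) : ∃ x : Ω, t • x ≠ x := by
  by_contra h
  push Not at h
  exact H.ne_one (FaithfulSMul.eq_of_smul_eq_smul fun x : Ω => by rw [h x, one_smul])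

theorem ncard_moved (H : Hyp G Ω t i) : ((fixedBy Ω t)ᶜ).ncard = Nat.card Ω - i := by
  rw [Set.ncard_compl, H.fix_t]

theorem lt (H : Hyp G Ω t i) : i < Nat.card Ω := by
  obtain ⟨x, hx⟩ := H.moved
  have h : 0 < ((fixedBy Ω t)ᶜ).ncard := (Set.ncard_pos (Set.toFinite _)).2 ⟨x, hx⟩
  rw [H.ncard_moved] at h
  omega

theorem card_pr (H : Hyp G Ω t i) {a b p q : Ω} (hab : a ≠ b) (hpq : p ≠ q) :
    Nat.card (pr G p q) = Nat.card (pr G a b) := by
  obtain ⟨k, rfl, rfl⟩ := H.two hab hpq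
  refine (Nat.card_congr
    { toFun := fun g => ⟨k * g.1 * k⁻¹, by simp [mem_pr, mul_smul, (mem_pr.1 g.2).1],
        by simp [mul_smul, (mem_pr.1 g.2).2]⟩
      invFun := fun g => ⟨k⁻¹ * g.1 * k, by simp [mul_smul, inv_smul_eq_iff, (mem_pr.1 g.2).1],
        by simp [mul_smul, inv_smul_eq_iff, (mem_pr.1 g.2).2]⟩
      left_inv := fun g => Subtype.ext (show k⁻¹ * (k * g.1 * k⁻¹) * k = g.1 by group)
      right_inv := fun g => Subtype.ext (show k * (k⁻¹ * g.1 * k) * k⁻¹ = g.1 by group) }).symm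

/-- The elements whose inverses take a pair into a set of pairs. -/
theorem pair_count (H : Hyp G Ω t i) {a b : Ω} (hab : a ≠ b) (R : Set (Ω × Ω)) :
    Nat.card {g : G // (g⁻¹ • a, g⁻¹ • b) ∈ R} =
      {x : Ω × Ω | x.1 ≠ x.2 ∧ x ∈ R}.ncard * Nat.card (pr G a b) := by
  classical
  let f : {g : G // (g⁻¹ • a, g⁻¹ • b) ∈ R} → {x : Ω × Ω | x.1 ≠ x.2 ∧ x ∈ R} := fun g =>
    ⟨(g.1⁻¹ • a, g.1⁻¹ • b), fun h => hab (MulAction.injective g.1⁻¹ h), g.2⟩
  have e : ∀ x, {g : {g : G // (g⁻¹ • a, g⁻¹ • b) ∈ R} // f g = x} ≃ pr G a b := fun x =>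
    let k := (H.two x.2.1 hab).choose
    have hk : k • x.1.1 = a ∧ k • x.1.2 = b := (H.two x.2.1 hab).choose_spec
    have hk1 : k⁻¹ • a = x.1.1 := by rw [inv_smul_eq_iff, hk.1]
    have hk2 : k⁻¹ • b = x.1.2 := by rw [inv_smul_eq_iff, hk.2]
    { toFun := fun g => ⟨g.1.1 * k⁻¹, by
        have h1 : g.1.1⁻¹ • a = x.1.1 ∧ g.1.1⁻¹ • b = x.1.2 := Prod.ext_iff.1 (congrArg Subtype.val g.2)
        refine mem_pr.2 ⟨?_, ?_⟩
        · rw [mul_smul, hk1, ← h1.1, smul_inv_smul]
        · rw [mul_smul, hk2, ← h1.2, smul_inv_smul]⟩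
      invFun := fun c => ⟨⟨c.1 * k, by
        rw [mul_inv_rev, mul_smul, mul_smul, inv_smul_eq_iff.2 (mem_pr.1 c.2).1.symm,
          inv_smul_eq_iff.2 (mem_pr.1 c.2).2.symm, hk1, hk2]
        exact x.2.2⟩, Subtype.ext (by
        show ((c.1 * k)⁻¹ • a, (c.1 * k)⁻¹ • b) = _
        rw [mul_inv_rev, mul_smul, mul_smul, inv_smul_eq_iff.2 (mem_pr.1 c.2).1.symm,
          inv_smul_eq_iff.2 (mem_pr.1 c.2).2.symm, hk1, hk2])⟩
      left_inv := fun g => Subtype.ext (Subtype.ext (inv_mul_cancel_right _ _))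
      right_inv := fun c => Subtype.ext (mul_inv_cancel_right _ _) }
  rw [Nat.card_congr ((Equiv.sigmaFiberEquiv f).symm.trans ((Equiv.sigmaCongrRight e).trans
    (Equiv.sigmaEquivProd _ _))), Nat.card_prod, Nat.card_coe_set_eq]

theorem swap_count (H : Hyp G Ω t i) {a b : Ω} (hab : a ≠ b) :
    {u : G | IsConj t u ∧ u • a = b}.ncard * Nat.card (centralizer ({t} : Set G)) =
      (Nat.card Ω - i) * Nat.card (pr G a b) := by
  rw [← conj_count t (fun u => u • a = b), Nat.card_congr (Equiv.subtypeEquivRight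
    (q := fun g : G => (g⁻¹ • a, g⁻¹ • b) ∈ {x : Ω × Ω | t • x.1 = x.2}) fun g => ?_), H.pair_count hab]
  · congr 1
    rw [← H.ncard_moved, ← Set.ncard_image_of_injective ((fixedBy Ω t)ᶜ)
      (f := fun x => (x, t • x)) fun x y h => congrArg Prod.fst h]
    congr 1
    ext ⟨x, y⟩
    constructor
    · rintro ⟨hne, h⟩
      exact ⟨x, fun hx => hne ((mem_fixedBy.1 hx).symm.trans h), Prod.ext rfl h⟩
    · rintro ⟨z, hz, h⟩
      obtain ⟨rfl, rfl⟩ := Prod.ext_iff.1 h
      exact ⟨fun e => hz (mem_fixedBy.2 e.symm), rfl⟩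
  · show (g * t * g⁻¹) • a = b ↔ t • g⁻¹ • a = g⁻¹ • b
    rw [eq_inv_smul_iff, ← mul_smul, ← mul_smul]

theorem fix_count (H : Hyp G Ω t i) {a b : Ω} (hab : a ≠ b) :
    {u : G | IsConj t u ∧ (u • a = a ∧ u • b = b)}.ncard * Nat.card (centralizer ({t} : Set G)) =
      i * (i - 1) * Nat.card (pr G a b) := by
  rw [← conj_count t (fun u => u • a = a ∧ u • b = b), Nat.card_congr (Equiv.subtypeEquivRight
    (q := fun g : G => (g⁻¹ • a, g⁻¹ • b) ∈ {x : Ω × Ω | t • x.1 = x.1 ∧ t • x.2 = x.2}) fun g => ?_),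
    H.pair_count hab]
  · congr 1
    rw [← H.fix_t, ← ncard_offDiag]
    congr 1
    ext ⟨x, y⟩
    exact ⟨fun h => ⟨h.2.1, h.2.2, h.1⟩, fun h => ⟨h.2.2, h.1, h.2.1⟩⟩
  · show (g * t * g⁻¹) • a = a ∧ (g * t * g⁻¹) • b = b ↔ t • g⁻¹ • a = g⁻¹ • a ∧ t • g⁻¹ • b = g⁻¹ • b
    rw [eq_inv_smul_iff, eq_inv_smul_iff, ← mul_smul, ← mul_smul, ← mul_smul, ← mul_smul]

theorem card_stab (H : Hyp G Ω t i) {a b : Ω} (hab : a ≠ b) :
    Nat.card (stabilizer G a) = (Nat.card Ω - 1) * Nat.card (pr G a b) := by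
  have h := (stabilizer (stabilizer G a) b).card_mul_index
  rw [index_stabilizer] at h
  have hor : orbit (stabilizer G a) b = {a}ᶜ := by
    ext q
    constructor
    · rintro ⟨k, rfl⟩ hq
      exact hab (MulAction.injective (k : G) ((mem_stabilizer_iff.1 k.2).trans (Set.mem_singleton_iff.1 hq).symm))
    · intro hq
      obtain ⟨k, hka, hkb⟩ := H.two hab (Ne.symm hq)
      exact ⟨⟨k, hka⟩, hkb⟩
  have e : Nat.card (stabilizer (stabilizer G a) b) = Nat.card (pr G a b) := Nat.card_congr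
    { toFun := fun x => ⟨x.1.1, x.1.2, x.2⟩
      invFun := fun x => ⟨⟨x.1, x.2.1⟩, x.2.2⟩
      left_inv := fun _ => rfl
      right_inv := fun _ => rfl }
  rw [hor, Set.ncard_compl, Set.ncard_singleton, e, mul_comm] at h
  exact h.symm

theorem card_group (H : Hyp G Ω t i) {a b : Ω} (hab : a ≠ b) :
    Nat.card G = Nat.card Ω * ((Nat.card Ω - 1) * Nat.card (pr G a b)) := by
  have h := (stabilizer G a).card_mul_index
  rw [index_stabilizer] at h
  have hor : orbit G a = Set.univ := Set.eq_univ_of_forall fun q => by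
    rcases eq_or_ne a q with rfl | hq
    · exact mem_orbit_self a
    obtain ⟨k, hka, -⟩ := H.two hab (fun e : q = a => hq e.symm)
    exact ⟨k, hka⟩
  rw [hor, Set.ncard_univ, H.card_stab hab, mul_comm] at h
  exact h.symm

theorem exists_pair (H : Hyp G Ω t i) : ∃ a b : Ω, a ≠ b := by
  obtain ⟨x, hx⟩ := H.moved
  exact ⟨t • x, x, hx⟩

theorem sum_cent (H : Hyp G Ω t i) [Fintype (centralizer ({t} : Set G))] :
    ∑ g : centralizer ({t} : Set G), (fixedBy Ω (g : G)).ncard =
      Nat.card Ω + (Nat.card (centralizer ({t} : Set G)) - 1) * i := by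
  classical
  rw [Fintype.sum_eq_add_sum_compl (1 : centralizer ({t} : Set G)),
    Finset.sum_eq_card_nsmul (s := {(1 : centralizer ({t} : Set G))}ᶜ) (b := i) fun g hg => H.const g
      (mem_centralizer_singleton_iff.1 g.2) fun e => Finset.mem_compl.1 hg (Finset.mem_singleton.2 (Subtype.ext e)),
    Finset.card_compl, Finset.card_singleton, smul_eq_mul, ← Nat.card_eq_fintype_card]
  congr 1
  rw [OneMemClass.coe_one, fixedBy_one_eq_univ, Set.ncard_univ]

theorem dvd_moved (H : Hyp G Ω t i) : Nat.card (centralizer ({t} : Set G)) ∣ Nat.card Ω - i := by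
  classical
  letI := Fintype.ofFinite (centralizer ({t} : Set G))
  have h := dvd_sum_fixed (Ω := Ω) (centralizer ({t} : Set G))
  rw [H.sum_cent] at h
  have hc : 1 ≤ Nat.card (centralizer ({t} : Set G)) := Nat.card_pos
  have h2 : Nat.card Ω + (Nat.card (centralizer ({t} : Set G)) - 1) * i =
      Nat.card Ω - i + Nat.card (centralizer ({t} : Set G)) * i := by
    have h3 : (Nat.card (centralizer ({t} : Set G)) - 1) * i + i = Nat.card (centralizer ({t} : Set G)) * i := by
      conv_rhs => rw [← Nat.sub_add_cancel hc, Nat.add_mul, one_mul]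
    have := H.lt
    omega
  rw [h2] at h
  exact (Nat.dvd_add_left (Dvd.intro _ rfl)).1 h

/-- The centralizer is as large as the moved set, and all exchanges are conjugates. -/
theorem core (H : Hyp G Ω t i) :
    Nat.card (centralizer ({t} : Set G)) + i = Nat.card Ω ∧
      ∀ (g : G) (a b : Ω), a ≠ b → g • a = b → g • b = a → IsConj t g := by
  obtain ⟨k, hk⟩ := H.dvd_moved
  have hlt := H.lt
  have hk0 : 1 ≤ k := Nat.one_le_iff_ne_zero.2 fun e => by rw [e, mul_zero] at hk; omega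
  have key : ∀ a b : Ω, a ≠ b → k = 1 ∧ ∀ g : G, g • a = b → g • b = a → IsConj t g := by
    intro a b hab
    set U := {u : G | IsConj t u ∧ u • a = b} with hU
    have hcount := H.swap_count hab
    rw [← hU, hk, mul_assoc, mul_comm U.ncard] at hcount
    have hUk : U.ncard = k * Nat.card (pr G a b) := Nat.eq_of_mul_eq_mul_left Nat.card_pos hcount
    obtain ⟨s, hs⟩ : U.Nonempty := by
      rw [← Set.ncard_pos (Set.toFinite _), hUk]
      exact Nat.mul_pos hk0 Nat.card_pos
    have hback : ∀ u ∈ U, u • b = a := fun u hu => by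
      obtain ⟨⟨h, rfl⟩, rfl⟩ := And.imp_left isConj_iff.1 hu
      rw [smul_smul, show h * t * h⁻¹ * (h * t * h⁻¹) = h * (t * t) * h⁻¹ by group,
        Invol.inv_mul_self H.inv, mul_one, mul_inv_cancel, one_smul]
    have hsb := hback s hs
    have hinto : ∀ g : G, g • a = b → g • b = a → s⁻¹ * g ∈ (pr G a b : Set G) := fun g hga hgb =>
      ⟨by show (s⁻¹ * g) • a = a; rw [mul_smul, hga, inv_smul_eq_iff, hs.2],
        by show (s⁻¹ * g) • b = b; rw [mul_smul, hgb, inv_smul_eq_iff, hsb]⟩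
    have himg : (s⁻¹ * ·) '' U ⊆ (pr G a b : Set G) := by
      rintro _ ⟨u, hu, rfl⟩
      exact hinto u hu.2 (hback u hu)
    have hle : U.ncard ≤ Nat.card (pr G a b) := by
      rw [← Set.ncard_image_of_injective U (mul_right_injective s⁻¹)]
      exact (Set.ncard_le_ncard himg (Set.toFinite _)).trans_eq (Nat.card_coe_set_eq _).symm
    have hk1 : k = 1 := by
      rw [hUk] at hle
      exact le_antisymm (Nat.le_of_mul_le_mul_right (hle.trans_eq (one_mul _).symm) Nat.card_pos) hk0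
    refine ⟨hk1, fun g hga hgb => ?_⟩
    have heq : (s⁻¹ * ·) '' U = (pr G a b : Set G) := by
      refine Set.eq_of_subset_of_ncard_le himg ?_ (Set.toFinite _)
      rw [Set.ncard_image_of_injective U (mul_right_injective s⁻¹), hUk, hk1, one_mul]
      exact (Nat.card_coe_set_eq _).ge
    obtain ⟨u, hu, he⟩ := heq.ge (hinto g hga hgb)
    exact (mul_left_cancel he) ▸ hu.1
  refine ⟨?_, fun g a b hab => (key a b hab).2 g⟩
  obtain ⟨a, b, hab⟩ := H.exists_pair
  rw [(key a b hab).1, mul_one] at hk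
  omega

theorem card_cent (H : Hyp G Ω t i) : Nat.card (centralizer ({t} : Set G)) + i = Nat.card Ω := H.core.1

theorem invol_of_swap (H : Hyp G Ω t i) {g : G} {a b : Ω} (hab : a ≠ b) (ha : g • a = b) (hb : g • b = a) :
    orderOf g = 2 := by
  obtain ⟨k, rfl⟩ := isConj_iff.1 (H.core.2 g a b hab ha hb)
  rw [Invol.orderOf_conj_eq, H.inv]

theorem isConj (H : Hyp G Ω t i) {u : G} (hu : orderOf u = 2) : IsConj t u := by
  obtain ⟨x, hx⟩ : ∃ x : Ω, u • x ≠ x := by
    by_contra h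
    push Not at h
    exact Invol.ne_one hu (FaithfulSMul.eq_of_smul_eq_smul fun x : Ω => by rw [h x, one_smul])
  exact H.core.2 u x (u • x) hx.symm rfl (by rw [smul_smul, Invol.inv_mul_self hu, one_smul])

theorem transfer (H : Hyp G Ω t i) {u : G} (hu : orderOf u = 2) : Hyp G Ω u i := by
  obtain ⟨k, rfl⟩ := isConj_iff.1 (H.isConj hu)
  refine ⟨H.two, hu, fun g hg hg1 => ?_⟩
  have h1 : Commute (k⁻¹ * g * k) t := by
    show k⁻¹ * g * k * t = t * (k⁻¹ * g * k)
    calc k⁻¹ * g * k * t = k⁻¹ * (g * (k * t * k⁻¹)) * k := by group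
      _ = t * (k⁻¹ * g * k) := by rw [hg.eq]; group
  rw [← H.const _ h1 fun e => hg1 (by
    calc g = k * (k⁻¹ * g * k) * k⁻¹ := by group
      _ = 1 := by rw [e, mul_one, mul_inv_cancel]), ← Fix4.ncard_conj (k⁻¹ * g * k) k]
  congr 2
  group

theorem card_cent_of (H : Hyp G Ω t i) {u : G} (hu : orderOf u = 2) :
    Nat.card (centralizer ({u} : Set G)) = Nat.card (centralizer ({t} : Set G)) := by
  have h1 := (H.transfer hu).card_cent
  have h2 := H.card_cent
  omega

theorem exists_swap (H : Hyp G Ω t i) {a b : Ω} (hab : a ≠ b) :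
    ∃ s : G, s • a = b ∧ s • b = a ∧ orderOf s = 2 := by
  obtain ⟨s, hs1, hs2⟩ := H.two hab hab.symm
  exact ⟨s, hs1, hs2, H.invol_of_swap hab hs1 hs2⟩

/-- An exchange inverts the two-point stabilizer. -/
theorem inverts (H : Hyp G Ω t i) {a b : Ω} (hab : a ≠ b) {s g : G} (hsa : s • a = b) (hsb : s • b = a)
    (hga : g • a = a) (hgb : g • b = b) : s * g * s⁻¹ = g⁻¹ := by
  have hs := Invol.inv_mul_self (H.invol_of_swap hab hsa hsb)
  have hsg := Invol.inv_mul_self (H.invol_of_swap hab (g := s * g) (by rw [mul_smul, hga, hsa])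
    (by rw [mul_smul, hgb, hsb]))
  rw [inv_eq_of_mul_eq_one_right hs]
  exact eq_inv_of_mul_eq_one_left (by rw [mul_assoc (s * g)]; exact hsg)

theorem pr_comm (H : Hyp G Ω t i) {a b : Ω} (hab : a ≠ b) {g h : G} (hg : g ∈ pr G a b) (hh : h ∈ pr G a b) :
    Commute g h := by
  obtain ⟨s, hsa, hsb, -⟩ := H.exists_swap hab
  have inv : ∀ x ∈ pr G a b, s * x * s⁻¹ = x⁻¹ := fun x hx => H.inverts hab hsa hsb hx.1 hx.2
  have h1 := inv _ (mul_mem hg hh)
  rw [show s * (g * h) * s⁻¹ = (s * g * s⁻¹) * (s * h * s⁻¹) by group, inv g hg, inv h hh, mul_inv_rev] at h1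
  have h2 := congrArg (·⁻¹) h1
  simp only [mul_inv_rev, inv_inv] at h2
  exact h2.symm

/-- An element commuting with the involution and fixing a moved point squares to one. -/
theorem sq_of_moved (H : Hyp G Ω t i) {g : G} (hg : Commute g t) {x : Ω} (hx : t • x ≠ x) (hgx : g • x = x) :
    g * g = 1 := by
  have hgy : g • t • x = t • x := by rw [smul_smul, hg.eq, mul_smul, hgx]
  have h := H.inverts hx.symm rfl (H.tsym x) hgx hgy
  rw [← hg.eq, mul_inv_cancel_right] at h
  exact mul_eq_one_iff_eq_inv.2 h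

/-- The part of a two-point stabilizer of an exchanged pair that is centralized. -/
theorem comm_of_sq (H : Hyp G Ω t i) {g : G} {x : Ω} (hx : t • x ≠ x) (hgx : g • x = x)
    (hgy : g • t • x = t • x) (hg : g * g = 1) : Commute g t := by
  have h := H.inverts hx.symm rfl (H.tsym x) hgx hgy
  rw [inv_eq_of_mul_eq_one_right hg, mul_inv_eq_iff_eq_mul] at h
  exact h.symm

/-- A two-point stabilizer containing an involution lies in its centralizer. -/
theorem pr_le_cent (H : Hyp G Ω t i) {a b : Ω} (hab : a ≠ b) (ha : t • a = a) (hb : t • b = b) :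
    pr G a b ≤ centralizer ({t} : Set G) := fun _ hg =>
  mem_centralizer_singleton_iff.2 (H.pr_comm hab hg (mem_pr.2 ⟨ha, hb⟩)).eq

end Hyp

end Cfsg.Lib.ConstFix
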