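import Cfsg.Agent.Lib.ConstFix.Base

/-!
# Constant fixity at least two is equal to two
-/

set_option autoImplicit false
set_option linter.unusedSectionVars false
set_option linter.style.haveILetI false

namespace Cfsg.Lib.ConstFix

open MulAction Subgroup Cfsg.Lib

universe u w

variable {G : Type u} [Group G] [Finite G] {Ω : Type w} [Finite Ω] [MulAction G Ω] [FaithfulSMul G Ω]

theorem card_orbit_mul (C : Subgroup G) (x : Ω) :
    (orbit C x).ncard * Nat.card (Fix4.st C x) = Nat.card C := by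
  have h := (stabilizer C x).card_mul_index
  rw [index_stabilizer, mul_comm] at h
  rw [← h]
  congr 1
  exact Nat.card_congr
    { toFun := fun g => ⟨⟨g.1, g.2.1⟩, g.2.2⟩
      invFun := fun g => ⟨g.1.1, g.1.2, g.2⟩
      left_inv := fun _ => rfl
      right_inv := fun _ => rfl }

namespace Hyp

variable {t : G} {i : ℕ}

theorem mem_cent {g : G} : g ∈ centralizer ({t} : Set G) ↔ Commute g t := mem_centralizer_singleton_iff

theorem fix_of_sq_ne (H : Hyp G Ω t i) {g : G} (hg : Commute g t) (h2 : g * g ≠ 1) :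
    fixedBy Ω g = fixedBy Ω t := by
  have hsub : fixedBy Ω g ⊆ fixedBy Ω t := fun x hx => by
    by_contra h
    exact h2 (H.sq_of_moved hg h hx)
  refine Set.eq_of_subset_of_ncard_le hsub ?_ (Set.toFinite _)
  rw [H.fix_t, H.const g hg fun e => h2 (by rw [e, one_mul])]

theorem exists_pair_fix (H : Hyp G Ω t i) (h : 2 ≤ i) : ∃ a b : Ω, a ≠ b ∧ t • a = a ∧ t • b = b := by
  obtain ⟨a, ha, b, hb, hab⟩ := (Set.one_lt_ncard (Set.toFinite (fixedBy Ω t))).1 (by rw [H.fix_t]; omega)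
  exact ⟨a, b, hab, ha, hb⟩

theorem conj_in_cent (H : Hyp G Ω t i) {x : Ω} (hx : t • x ≠ x) {k u : G} {a b : Ω} (hu : orderOf u = 2)
    (hua : u • a = a) (hub : u • b = b) (hka : k • a = x) (hkb : k • b = t • x) :
    Commute (k * u * k⁻¹) t ∧ (k * u * k⁻¹) • x = x := by
  have h1 : (k * u * k⁻¹) • x = x := by rw [← hka, mul_smul, mul_smul, inv_smul_smul, hua]
  have h2 : (k * u * k⁻¹) • t • x = t • x := by rw [← hkb, mul_smul, mul_smul, inv_smul_smul, hub]
  exact ⟨H.comm_of_sq hx h1 h2 (Invol.inv_mul_self (by rw [Invol.orderOf_conj_eq, hu])), h1⟩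

/-- Some element of the centralizer squares to a non-identity element. -/
theorem two_of_sq_ne (H : Hyp G Ω t i) (h : 2 ≤ i) {k : G} (hkt : Commute k t) (hk2 : k * k ≠ 1) : i = 2 := by
  classical
  set C := centralizer ({t} : Set G) with hCdef
  let InK : G → Prop := fun g => ∀ x ∈ fixedBy Ω t, g • x = x
  have hkK : InK k := fun x hx => mem_fixedBy.1 ((H.fix_of_sq_ne hkt hk2).symm ▸ hx)
  have hsq : ∀ g, Commute g t → ¬ InK g → g * g = 1 := fun g hg hgK => by
    by_contra h2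
    exact hgK fun x hx => mem_fixedBy.1 ((H.fix_of_sq_ne hg h2).symm ▸ hx)
  have hinv : ∀ g, Commute g t → ¬ InK g → g * k * g⁻¹ = k⁻¹ := by
    intro g hg hgK
    have h2 : ¬ InK (g * k) := fun hK => hgK fun x hx => by
      have h3 := hK x hx
      rwa [mul_smul, hkK x hx] at h3
    have e1 := hsq g hg hgK
    have e2 := hsq (g * k) (hg.mul_left hkt) h2
    rw [inv_eq_of_mul_eq_one_right e1]
    exact eq_inv_of_mul_eq_one_left (by rw [mul_assoc (g * k)]; exact e2)
  have honly : ∀ {x : Ω}, t • x ≠ x → ∀ g, Commute g t → g • x = x → InK g → g = 1 := by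
    intro x hx g hg hgx hK
    by_contra hg1
    have e : fixedBy Ω t = fixedBy Ω g :=
      Set.eq_of_subset_of_ncard_le hK (by rw [H.const g hg hg1, H.fix_t]) (Set.toFinite _)
    exact hx (mem_fixedBy.1 (e ▸ hgx : x ∈ fixedBy Ω t))
  have huniq : ∀ {x : Ω}, t • x ≠ x → ∀ g g', Commute g t → g • x = x → g ≠ 1 → Commute g' t → g' • x = x →
      g' ≠ 1 → g = g' := by
    intro x hx g g' hg hgx hg1 hg' hgx' hg1'
    have hnK : ¬ InK g := fun hK => hg1 (honly hx g hg hgx hK)
    have hnK' : ¬ InK g' := fun hK => hg1' (honly hx g' hg' hgx' hK)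
    have hK : InK (g * g') := by
      by_contra hK
      have h3 := hinv _ (hg.mul_left hg') hK
      rw [show g * g' * k * (g * g')⁻¹ = g * (g' * k * g'⁻¹) * g⁻¹ by group, hinv g' hg' hnK', ← conj_inv,
        hinv g hg hnK, inv_inv] at h3
      exact hk2 (mul_eq_one_iff_eq_inv.2 h3)
    have h4 := honly hx (g * g') (hg.mul_left hg') (by rw [mul_smul, hgx', hgx]) hK
    rw [mul_eq_one_iff_eq_inv.1 h4, inv_eq_of_mul_eq_one_right (hsq g' hg' hnK')]
  obtain ⟨a₀, b₀, hab₀, ha₀, hb₀⟩ := H.exists_pair_fix h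
  have hout : ∀ x : Ω, t • x ≠ x → Nat.card (Fix4.st C x) = 2 := by
    intro x hx
    obtain ⟨g, hga, hgb⟩ := H.two hab₀ hx.symm
    obtain ⟨hu, hux⟩ := H.conj_in_cent hx H.inv ha₀ hb₀ hga hgb
    refine (Nat.card_eq_two_iff' (1 : Fix4.st C x)).2 ⟨⟨g * t * g⁻¹, mem_cent.2 hu, hux⟩, fun e => H.ne_one
      (conj_eq_one_iff.1 (congrArg Subtype.val e)), fun v hv => Subtype.ext (huniq hx _ _ (mem_cent.1 v.2.1) v.2.2
        (fun e => hv (Subtype.ext e)) hu hux (fun e => H.ne_one (conj_eq_one_iff.1 e)))⟩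
  have hpair : ∀ a b : Ω, a ≠ b → t • a = a → t • b = b → ∀ u : G, orderOf u = 2 → u • a = a → u • b = b →
      u = t := by
    intro a b hab ha hb u hu hua hub
    obtain ⟨x, hx⟩ := H.moved
    obtain ⟨g, hga, hgb⟩ := H.two hab hx.symm
    obtain ⟨h1, h1x⟩ := H.conj_in_cent hx hu hua hub hga hgb
    obtain ⟨h2, h2x⟩ := H.conj_in_cent hx H.inv ha hb hga hgb
    exact mul_left_cancel (mul_right_cancel (huniq hx _ _ h1 h1x
      (fun e => Invol.ne_one hu (conj_eq_one_iff.1 e)) h2 h2x (fun e => H.ne_one (conj_eq_one_iff.1 e))))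
  have horb : ∀ a : Ω, t • a = a → orbit C a = fixedBy Ω t := by
    intro a ha
    ext y
    constructor
    · rintro ⟨g, rfl⟩
      exact Fix4.fix_comm (mem_cent.1 g.2) ha
    · intro hy
      obtain ⟨b, hb, hba⟩ := Set.exists_ne_of_one_lt_ncard (by rw [H.fix_t]; omega : 1 < (fixedBy Ω t).ncard) a
      obtain ⟨b', hb', hby⟩ := Set.exists_ne_of_one_lt_ncard (by rw [H.fix_t]; omega : 1 < (fixedBy Ω t).ncard) y
      obtain ⟨g, hga, hgb⟩ := H.two hba.symm hby.symm
      have e := hpair y b' hby.symm hy hb' (g * t * g⁻¹) (by rw [Invol.orderOf_conj_eq, H.inv])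
        (by rw [← hga, mul_smul, mul_smul, inv_smul_smul, ha])
        (by rw [← hgb, mul_smul, mul_smul, inv_smul_smul, mem_fixedBy.1 hb])
      exact ⟨⟨g, mem_cent.2 (mul_inv_eq_iff_eq_mul.1 e)⟩, hga⟩
  letI := Fintype.ofFinite C
  letI := Fintype.ofFinite Ω
  have hsum := sum_fixed (Ω := Ω) C
  rw [H.sum_cent, ← Finset.sum_filter_add_sum_filter_not Finset.univ (fun x : Ω => t • x = x),
    Finset.sum_eq_card_nsmul (s := Finset.univ.filter fun x : Ω => ¬ t • x = x) (b := 2)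
      (fun x hx => hout x (Finset.mem_filter.1 hx).2), smul_eq_mul] at hsum
  have hin : (∑ x ∈ Finset.univ.filter (fun x : Ω => t • x = x), Nat.card (Fix4.st C x)) * i =
      Nat.card C * i := by
    rw [Finset.sum_mul, Finset.sum_eq_card_nsmul (b := Nat.card C), smul_eq_mul, mul_comm]
    · congr 1
      rw [← H.fix_t, Set.ncard_eq_toFinset_card']
      congr 1
      ext x
      simp [mem_fixedBy]
    · intro x hx
      rw [← card_orbit_mul C x, horb x (Finset.mem_filter.1 hx).2, H.fix_t, mul_comm]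
  have hin' := Nat.eq_of_mul_eq_mul_right (by omega) hin
  have hmoved : (Finset.univ.filter fun x : Ω => ¬ t • x = x).card = Nat.card C := by
    have h1 := H.ncard_moved
    rw [Set.ncard_eq_toFinset_card'] at h1
    rw [show (Finset.univ.filter fun x : Ω => ¬ t • x = x) = ((fixedBy Ω t)ᶜ).toFinset by
      ext x; simp [mem_fixedBy], h1]
    have := H.card_cent
    rw [← hCdef] at this
    omega
  rw [hin', hmoved] at hsum
  have hcc := H.card_cent
  have hc : 1 ≤ Nat.card C := Nat.card_pos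
  have h3 : (Nat.card C - 1) * i + i = Nat.card C * i := by
    conv_rhs => rw [← Nat.sub_add_cancel hc, Nat.add_mul, one_mul]
  have h4 : Nat.card C * i = Nat.card C * 2 := by
    rw [← hCdef] at hcc hsum
    omega
  exact Nat.eq_of_mul_eq_mul_left hc h4

variable (hsq : ∀ g : G, Commute g t → g * g = 1)
include hsq

theorem cent_comm (H : Hyp G Ω t i) {g h : G} (hg : Commute g t) (hh : Commute h t) : Commute g h := by
  have h1 := hsq _ (hg.mul_left hh)
  have h2 : (g * h)⁻¹ = g * h := inv_eq_of_mul_eq_one_right h1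
  rw [mul_inv_rev, inv_eq_of_mul_eq_one_right (hsq g hg), inv_eq_of_mul_eq_one_right (hsq h hh)] at h2
  exact h2.symm

theorem orderOf_cent (H : Hyp G Ω t i) {g : G} (hg : Commute g t) (h1 : g ≠ 1) : orderOf g = 2 :=
  Invol.orderOf_eq_two_of h1 (hsq g hg)

theorem cent_eq (H : Hyp G Ω t i) {u : G} (hu : Commute u t) (h1 : u ≠ 1) :
    centralizer ({u} : Set G) = centralizer ({t} : Set G) :=
  (Subgroup.eq_of_le_of_card_ge (fun _ hg => mem_centralizer_singleton_iff.2 (H.cent_comm hsq (mem_cent.1 hg) hu).eq)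
    (H.card_cent_of (H.orderOf_cent hsq hu h1)).le).symm

theorem pr_le (H : Hyp G Ω t i) {u : G} (hu : Commute u t) (h1 : u ≠ 1) {x y : Ω} (hxy : x ≠ y) (hx : u • x = x)
    (hy : u • y = y) : pr G x y ≤ centralizer ({t} : Set G) := fun g hg => by
  rw [← H.cent_eq hsq hu h1]
  exact mem_centralizer_singleton_iff.2 (H.pr_comm hxy hg (mem_pr.2 ⟨hx, hy⟩)).eq

theorem st_eq_pr (H : Hyp G Ω t i) (h : 2 ≤ i) {x : Ω} (hx : t • x ≠ x) :
    Fix4.st (centralizer ({t} : Set G)) x = pr G x (t • x) := by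
  obtain ⟨a, b, hab, ha, hb⟩ := H.exists_pair_fix h
  obtain ⟨g, hga, hgb⟩ := H.two hab hx.symm
  obtain ⟨hu, hux⟩ := H.conj_in_cent hx H.inv ha hb hga hgb
  have hu1 : g * t * g⁻¹ ≠ 1 := fun e => H.ne_one (conj_eq_one_iff.1 e)
  have huy : (g * t * g⁻¹) • t • x = t • x := by rw [smul_smul, hu.eq, mul_smul, hux]
  refine le_antisymm (fun k hk => ⟨hk.2, ?_⟩) fun k hk => ⟨H.pr_le hsq hu hu1 hx.symm hux huy hk, hk.1⟩
  show k • t • x = t • x
  rw [smul_smul, (mem_cent.1 hk.1).eq, mul_smul]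
  exact congrArg (t • ·) hk.2

/-- The arithmetic of the elementary abelian case. -/
theorem elementary_shape (H : Hyp G Ω t i) (h : 2 ≤ i) :
    Nat.card (centralizer ({t} : Set G)) = i * i ∧
      (∀ a b : Ω, a ≠ b → Nat.card (pr G a b) = i) ∧
      ∀ u v : G, Commute u t → Commute v t → u ≠ 1 → v ≠ 1 → ∀ x : Ω, u • x = x → v • x = x →
        fixedBy Ω u = fixedBy Ω v := by
  classical
  set C := centralizer ({t} : Set G) with hCdef
  obtain ⟨a, b, hab, ha, hb⟩ := H.exists_pair_fix h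
  set d := Nat.card (pr G a b) with hd
  have hd0 : 0 < d := Nat.card_pos
  have hst : ∀ x : Ω, (∃ u, Commute u t ∧ u • x ≠ x) → Nat.card (Fix4.st C x) = d := by
    rintro x ⟨u, hu, hux⟩
    have hu1 : u ≠ 1 := fun e => hux (by rw [e, one_smul])
    have hc := H.cent_eq hsq hu hu1
    have h1 := (H.transfer (H.orderOf_cent hsq hu hu1)).st_eq_pr
      (fun g hg => hsq g (mem_cent.1 (hc ▸ (mem_cent (t := u)).2 hg))) h hux
    rw [hc] at h1
    rw [h1, H.card_pr hab hux.symm]
  obtain ⟨x, hx⟩ := H.moved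
  have hxd : Nat.card (Fix4.st C x) = d := hst x ⟨t, Commute.refl t, hx⟩
  have htx : t ∉ Fix4.st C x := fun e => hx e.2
  obtain ⟨y, hy, hyZ⟩ : ∃ y : Ω, t • y = y ∧ ∃ u, Commute u t ∧ u • y ≠ y := by
    by_contra hc
    push Not at hc
    have hle : C ≤ pr G a b := fun u hu => ⟨hc a ha u (mem_cent.1 hu), hc b hb u (mem_cent.1 hu)⟩
    have e : Fix4.st C x = C := Subgroup.eq_of_le_of_card_ge inf_le_left (by rw [hxd]; exact card_le_of_le hle)
    exact htx (e.symm ▸ mem_cent.2 (Commute.refl t))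
  have hyd : Nat.card (Fix4.st C y) = d := hst y hyZ
  have hinf : Fix4.st C x ⊓ Fix4.st C y = ⊥ := by
    refine (Subgroup.eq_bot_iff_forall _).2 fun u hu => by_contra fun hu1 => htx ?_
    have hxy : x ≠ y := fun e => hx (e ▸ hy)
    have hp := H.pr_le hsq (mem_cent.1 hu.1.1) hu1 hxy hu.1.2 hu.2.2
    have e : Fix4.st C x ⊓ Fix4.st C y = pr G x y := le_antisymm (fun g hg => ⟨hg.1.2, hg.2.2⟩)
      (fun g hg => ⟨⟨hp hg, hg.1⟩, ⟨hp hg, hg.2⟩⟩)
    have e1 : Fix4.st C x ⊓ Fix4.st C y = Fix4.st C x :=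
      Subgroup.eq_of_le_of_card_ge inf_le_left (by rw [e, hxd, H.card_pr hab hxy])
    have e2 : Fix4.st C x ⊓ Fix4.st C y = Fix4.st C y :=
      Subgroup.eq_of_le_of_card_ge inf_le_right (by rw [e, hyd, H.card_pr hab hxy])
    rw [← e1, e2]
    exact ⟨mem_cent.2 (Commute.refl t), hy⟩
  have hdd : d * d ≤ Nat.card C := by
    have h1 := Fix4.card_mul_le (inf_le_left : Fix4.st C x ≤ C) (inf_le_left : Fix4.st C y ≤ C)
    rwa [hxd, hyd, hinf, Subgroup.card_bot, mul_one] at h1
  set q := (orbit C y).ncard with hq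
  have hqd : q * d = Nat.card C := by rw [← hyd]; exact card_orbit_mul C y
  have hdq : d ≤ q := by
    rw [← hqd] at hdd
    exact Nat.le_of_mul_le_mul_right hdd hd0
  have hsub : orbit C y ⊆ fixedBy Ω t := by
    rintro _ ⟨g, rfl⟩
    exact Fix4.fix_comm (mem_cent.1 g.2) hy
  have hqi : q ≤ i := by rw [← H.fix_t]; exact Set.ncard_le_ncard hsub (Set.toFinite _)
  have hcount := H.fix_count hab
  have hset : {u : G | IsConj t u ∧ (u • a = a ∧ u • b = b)} = (pr G a b : Set G) \ {1} := by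
    ext u
    refine ⟨fun hu => ⟨hu.2, fun e => H.ne_one ((isConj_iff.1 hu.1).elim fun c hc =>
      conj_eq_one_iff.1 (hc.trans (Set.mem_singleton_iff.1 e)))⟩, fun hu => ⟨?_, hu.1⟩⟩
    exact H.isConj (H.orderOf_cent hsq (mem_cent.1 (H.pr_le_cent hab ha hb hu.1)) fun e => hu.2 e)
  rw [hset, Set.ncard_diff_singleton_of_mem (one_mem (pr G a b)), ← Nat.card_coe_set_eq,
    show Nat.card ((pr G a b : Set G) : Type _) = d from rfl, ← hCdef, ← hqd, ← hd, ← mul_assoc] at hcount
  have heq : (d - 1) * q = i * (i - 1) := Nat.eq_of_mul_eq_mul_right hd0 hcount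
  have hiq : i = q ∧ d = q := by
    rcases Nat.lt_or_ge q i with hlt | hge
    · have h1 : i * (i - 1) ≥ i * q := Nat.mul_le_mul_left _ (by omega)
      have h2 : (d - 1) * q ≤ q * q := Nat.mul_le_mul_right _ (by omega)
      have h3 : q * q < i * q := Nat.mul_lt_mul_of_pos_right hlt (lt_of_lt_of_le hd0 hdq)
      omega
    · have e : i = q := by omega
      refine ⟨e, ?_⟩
      rw [← e, mul_comm i] at heq
      have := Nat.eq_of_mul_eq_mul_right (by omega) heq
      omega
  have hdi : d = i := by omega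
  have hC2 : Nat.card C = i * i := by rw [← hqd, hdi, show q = i from hiq.1.symm]
  refine ⟨hC2, fun p r hpr => (H.card_pr hab hpr).trans hdi, fun u v hu hv hu1 hv1 z huz hvz => ?_⟩
  have horby : orbit C y = fixedBy Ω t :=
    Set.eq_of_subset_of_ncard_le hsub (by rw [H.fix_t, ← hq]; omega) (Set.toFinite _)
  have hall : ∀ z : Ω, ∃ w, Commute w t ∧ w • z ≠ z := by
    intro z
    rcases ne_or_eq (t • z) z with hz | hz
    · exact ⟨t, Commute.refl t, hz⟩
    obtain ⟨z', hz', hne⟩ := Set.exists_ne_of_one_lt_ncard (by rw [H.fix_t]; omega : 1 < (fixedBy Ω t).ncard) z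
    rw [← horby] at hz'
    have hzo : z ∈ orbit C y := horby.ge hz
    rw [← orbit_eq_iff.2 hzo] at hz'
    obtain ⟨w, rfl⟩ := hz'
    exact ⟨w, mem_cent.1 w.2, hne⟩
  have horbz : (orbit C z).ncard = i := by
    have h1 := card_orbit_mul C z
    rw [hst z (hall z), hC2, hdi] at h1
    exact Nat.eq_of_mul_eq_mul_right (by omega) h1
  have hfix : ∀ w : G, Commute w t → w ≠ 1 → w • z = z → fixedBy Ω w = orbit C z := by
    intro w hw hw1 hwz
    refine (Set.eq_of_subset_of_ncard_le ?_ (by rw [H.const w hw hw1, horbz]) (Set.toFinite _)).symm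
    rintro _ ⟨g, rfl⟩
    exact Fix4.fix_comm (H.cent_comm hsq (mem_cent.1 g.2) hw) hwz
  rw [hfix u hu hu1 huz, hfix v hv hv1 hvz]

/-- The elementary abelian case. -/
theorem two_of_elementary (H : Hyp G Ω t i) (h : 2 ≤ i) : i = 2 := by
  classical
  obtain ⟨hC, hd, -⟩ := H.elementary_shape hsq h
  obtain ⟨a, b, hab, ha, hb⟩ := H.exists_pair_fix h
  have hall : ∀ u : G, IsConj t u → Hyp G Ω u i ∧ ∀ g : G, Commute g u → g * g = 1 := by
    intro u hu
    obtain ⟨k, rfl⟩ := isConj_iff.1 hu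
    refine ⟨H.transfer (by rw [Invol.orderOf_conj_eq, H.inv]), fun g hg => ?_⟩
    have h1 : Commute (k⁻¹ * g * k) t := by
      show k⁻¹ * g * k * t = t * (k⁻¹ * g * k)
      calc k⁻¹ * g * k * t = k⁻¹ * (g * (k * t * k⁻¹)) * k := by group
        _ = t * (k⁻¹ * g * k) := by rw [hg.eq]; group
    calc g * g = k * ((k⁻¹ * g * k) * (k⁻¹ * g * k)) * k⁻¹ := by group
      _ = 1 := by rw [hsq _ h1, mul_one, mul_inv_cancel]
  have hfib : ∀ u : G, IsConj t u →
      {v : G | IsConj t v ∧ fixedBy Ω v = fixedBy Ω u}.ncard = i - 1 := by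
    intro u hu
    obtain ⟨Hu, hu2⟩ := hall u hu
    obtain ⟨p, r, hpr, hp, hr⟩ := Hu.exists_pair_fix h
    have e : {v : G | IsConj t v ∧ fixedBy Ω v = fixedBy Ω u} = (pr G p r : Set G) \ {1} := by
      ext v
      constructor
      · rintro ⟨hv, hvf⟩
        exact ⟨mem_pr.2 ⟨mem_fixedBy.1 (hvf.ge hp), mem_fixedBy.1 (hvf.ge hr)⟩, fun e => H.ne_one
          ((isConj_iff.1 hv).elim fun c hc => conj_eq_one_iff.1 (hc.trans (Set.mem_singleton_iff.1 e)))⟩
      · rintro ⟨hv, hv1⟩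
        have hc : Commute v u := mem_cent.1 (Hu.pr_le_cent hpr hp hr hv)
        exact ⟨H.isConj (Hu.orderOf_cent hu2 hc fun e => hv1 e),
          (Hu.elementary_shape hu2 h).2.2 v u hc (Commute.refl u) (fun e => hv1 e) Hu.ne_one p hv.1 hp⟩
    rw [e, Set.ncard_diff_singleton_of_mem (one_mem (pr G p r)), ← Nat.card_coe_set_eq]
    exact congrArg (· - 1) (hd p r hpr)
  letI := Fintype.ofFinite G
  set D := {u : G | IsConj t u} with hD
  have hdvd : i - 1 ∣ D.ncard := by
    rw [Set.ncard_eq_toFinset_card', Finset.card_eq_sum_card_image (fun u => fixedBy Ω u)]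
    refine Finset.dvd_sum fun F hF => dvd_of_eq ?_
    obtain ⟨u, hu, rfl⟩ := Finset.mem_image.1 hF
    rw [← hfib u (show u ∈ D from Set.mem_toFinset.1 hu), Set.ncard_eq_toFinset_card']
    congr 1
    ext v
    simp [hD]
  have hclass : D.ncard * (i * i) = Nat.card G := by
    have h1 := conj_count t (fun _ : G => True)
    rw [Nat.card_congr (Equiv.subtypeUnivEquiv fun _ => trivial), hC,
      show {u : G | IsConj t u ∧ True} = D by simp [hD]] at h1
    exact h1.symm
  have hn := H.card_cent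
  rw [hC] at hn
  rw [H.card_group hab, hd a b hab, ← hn] at hclass
  have hev : 2 ∣ i := by
    have h1 : orderOf t ∣ Nat.card (pr G a b) := Subgroup.orderOf_dvd_natCard _ (mem_pr.2 ⟨ha, hb⟩)
    rwa [H.inv, hd a b hab] at h1
  obtain ⟨m, rfl⟩ : ∃ m, i = m + 1 := ⟨i - 1, by omega⟩
  rw [show (m + 1) * (m + 1) + (m + 1) - 1 = m * m + 3 * m + 1 by
    have : (m + 1) * (m + 1) + (m + 1) = m * m + 3 * m + 2 := by ring
    omega] at hclass
  have hD2 : D.ncard = (m + 2) * (m * m + 3 * m + 1) := by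
    refine Nat.eq_of_mul_eq_mul_right (show 0 < (m + 1) * (m + 1) by positivity) ?_
    rw [hclass]
    ring
  rw [Nat.add_sub_cancel, hD2, show (m + 2) * (m * m + 3 * m + 1) = m * (m * m + 5 * m + 7) + 2 by ring,
    Nat.dvd_add_right (dvd_mul_right _ _)] at hdvd
  have := Nat.le_of_dvd two_pos hdvd
  omega

omit hsq in
/-- Fixity at least two is exactly two. -/
theorem eq_two (H : Hyp G Ω t i) (h : 2 ≤ i) : i = 2 := by
  by_cases hk : ∀ g : G, Commute g t → g * g = 1
  · exact H.two_of_elementary hk h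
  · push Not at hk
    obtain ⟨k, hk1, hk2⟩ := hk
    exact H.two_of_sq_ne h hk1 hk2

omit hsq in
/-- With fixity at least two no non-identity element fixes three points. -/
theorem three_of_two_le (H : Hyp G Ω t i) (h : 2 ≤ i) {g : G} (hg : g ≠ 1) : (fixedBy Ω g).ncard ≤ 2 := by
  by_contra hc
  push Not at hc
  obtain ⟨x, hx, y, hy, hxy⟩ := (Set.one_lt_ncard (Set.toFinite (fixedBy Ω g))).1 (by omega)
  obtain ⟨a, b, hab, ha, hb⟩ := H.exists_pair_fix h
  obtain ⟨k, hka, hkb⟩ := H.two hab hxy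
  set u := k * t * k⁻¹ with hu
  have huo : orderOf u = 2 := by rw [hu, Invol.orderOf_conj_eq, H.inv]
  have hux : u • x = x := by rw [hu, ← hka, mul_smul, mul_smul, inv_smul_smul, ha]
  have huy : u • y = y := by rw [hu, ← hkb, mul_smul, mul_smul, inv_smul_smul, hb]
  have := (H.transfer huo).const g (H.pr_comm hxy (mem_pr.2 ⟨hx, hy⟩) (mem_pr.2 ⟨hux, huy⟩)) hg
  have := H.eq_two h
  omega

end Hyp

end Cfsg.Lib.ConstFix
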