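import Cfsg.Agent.Lib.ConstFix.OneFix
import Cfsg.Agent.Lib.Perm.SharpTwo
import Cfsg.Agent.Lib.Perm.SuzUnique.Zassenhaus
import Cfsg.Agent.S0339

/-!
# Constant fixity: the classification
-/

set_option autoImplicit false
set_option linter.unusedSectionVars false
set_option linter.style.haveILetI false

namespace Cfsg.Lib.ConstFix

open MulAction Subgroup Cfsg.Lib

universe u w

variable {G : Type u} [Group G] [Finite G] {Ω : Type w} [Fintype Ω] [MulAction G Ω] [FaithfulSMul G Ω]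

theorem regular_of_sharp (h2 : IsMultiplyPretransitive G Ω 2) (hn : 2 ≤ Fintype.card Ω)
    (hs : ∀ a b : Ω, a ≠ b → ∀ g : G, g • a = a → g • b = b → g = 1) :
    ∃ R : Subgroup G, R.Normal ∧ (∀ x y : Ω, ∃ r ∈ R, r • x = y) ∧ ∀ x : Ω, ∀ r ∈ R, r • x = x → r = 1 := by
  classical
  set φ := toPermHom G Ω
  have hφ : Function.Injective φ := MulAction.toPerm_injective
  haveI : IsMultiplyPretransitive φ.range Ω 2 := by
    constructor
    intro x y
    obtain ⟨g, hg⟩ := h2.exists_smul_eq x y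
    exact ⟨⟨φ g, g, rfl⟩, hg⟩
  have hsharp : ∀ x : Fin 2 ↪ Ω, stabilizer φ.range x = ⊥ := by
    intro x
    rw [Subgroup.eq_bot_iff_forall]
    rintro ⟨_, g, rfl⟩ hx
    have e : ∀ i, φ g (x i) = x i := fun i => DFunLike.congr_fun (mem_stabilizer_iff.1 hx) i
    have h1 := hs (x 0) (x 1) (fun h => absurd (x.injective h) (by decide)) g (e 0) (e 1)
    exact Subtype.ext (by show φ g = 1; rw [h1, map_one])
  obtain ⟨p, j, -, -, -, T, hTn, -, -, -, -, hTt, hTs, -⟩ := Cfsg.Agent.Perm.sharpTwo_kernel φ.range hsharp hn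
  refine ⟨T.comap φ.rangeRestrict, hTn.comap _, fun x y => ?_, fun x r hr hrx => ?_⟩
  · obtain ⟨⟨⟨_, g, rfl⟩, hgT⟩, hgy⟩ := hTt.exists_smul_eq x y
    exact ⟨g, hgT, hgy⟩
  · have h1 : (⟨φ.rangeRestrict r, hr⟩ : T) ∈ stabilizer T x := hrx
    rw [hTs, Subgroup.mem_bot] at h1
    exact hφ ((congrArg (fun u : T => ((u : φ.range) : Equiv.Perm Ω)) h1).trans (map_one φ).symm)

/-- The classification. -/
theorem main (h2 : IsMultiplyPretransitive G Ω 2) {i : ℕ} {t : G} (ht : orderOf t = 2)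
    (hC : ∀ g : G, Commute g t → g ≠ 1 → (fixedBy Ω g).ncard = i) :
    (∃ (F : Type) (_ : Field F) (_ : Fintype F), Nonempty (G ≃* Matrix.ProjectiveSpecialLinearGroup (Fin 2) F)) ∨
    Cfsg.Lie.IsoSuzuki G ∨
    (∃ R : Subgroup G, R.Normal ∧ (∀ x y : Ω, ∃ r ∈ R, r • x = y) ∧ ∀ x : Ω, ∀ r ∈ R, r • x = x → r = 1) := by
  classical
  have H : Hyp G Ω t i := ⟨fun h h' => (is_two_pretransitive_iff.1 h2) h h', ht, hC⟩
  by_cases hreg : ∃ R : Subgroup G, R.Normal ∧ (∀ x y : Ω, ∃ r ∈ R, r • x = y) ∧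
      ∀ x : Ω, ∀ r ∈ R, r • x = x → r = 1
  · exact Or.inr (Or.inr hreg)
  have hthree : ∀ g : G, g ≠ 1 → (fixedBy Ω g).ncard ≤ 2 := fun g hg => by
    rcases Nat.lt_or_ge i 2 with hi | hi
    · by_contra hm
      exact hreg (H.regular_of_three (by omega) hg (by omega))
    · exact H.three_of_two_le hi hg
  obtain ⟨a, b, hab⟩ := H.exists_pair
  by_cases htwo : ∀ x y : Ω, x ≠ y → ∀ g : G, g • x = x → g • y = y → g = 1
  · exact absurd (regular_of_sharp h2 (Fintype.one_lt_card_iff.2 ⟨a, b, hab⟩) htwo) hreg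
  push Not at htwo
  obtain ⟨x, y, hxy, g₀, hg₀x, hg₀y, hg₀⟩ := htwo
  have h3 : ∀ g : G, ∀ p q r : Ω, p ≠ q → q ≠ r → p ≠ r → g • p = p → g • q = q → g • r = r → g = 1 := by
    intro g p q r hpq hqr hpr hp hq hr
    by_contra hg
    have h1 : 3 ≤ (fixedBy Ω g).ncard := by
      have h := Set.ncard_le_ncard (s := ({p, q, r} : Set Ω)) (t := fixedBy Ω g) (by
        rintro w (rfl | rfl | rfl) <;> assumption) (Set.toFinite _)
      rwa [Set.ncard_eq_three.2 ⟨p, q, r, hpq, hpr, hqr, rfl⟩] at h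
    have := hthree g hg
    omega
  have hZ : IsZassenhausGroup G Ω := by
    refine ⟨inferInstance, h2, h3, ⟨g₀, hg₀, x, y, hxy, hg₀x, hg₀y⟩, fun N hN hNt => ?_⟩
    by_contra hh
    push Not at hh
    refine hreg ⟨N, hN, fun p q => ?_, fun p r hr hrp => ?_⟩
    · obtain ⟨⟨r, hr⟩, hrq⟩ := hNt.exists_smul_eq p q
      exact ⟨r, hr, hrq⟩
    · have h1 : (⟨r, hr⟩ : N) ∈ stabilizer N p := hrp
      rw [hh p, Subgroup.mem_bot] at h1
      exact congrArg Subtype.val h1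
  haveI : Nontrivial G := ⟨t, 1, H.ne_one⟩
  haveI : IsSimpleGroup G := by
    constructor
    intro N hN
    refine or_iff_not_imp_left.2 fun hN1 => ?_
    haveI := hN
    have hN2 := (Cfsg.Agent.S0339.result hZ N hN1).2.1
    obtain ⟨⟨s, hsN⟩, hsa, hsb⟩ := (is_two_pretransitive_iff.1 hN2) hab hab.symm
    have hsa : s • a = b := hsa
    have hsb : s • b = a := hsb
    have hD : ∀ u : G, orderOf u = 2 → u ∈ N := by
      intro u hu
      obtain ⟨k, hk⟩ := isConj_iff.1 ((H.isConj (H.invol_of_swap hab hsa hsb)).symm.trans (H.isConj hu))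
      exact hk ▸ hN.conj_mem s hsN k
    refine (eq_top_iff' N).2 fun g => ?_
    obtain ⟨⟨n, hn⟩, hna, hnb⟩ := (is_two_pretransitive_iff.1 hN2) hab
      (fun e : g • a = g • b => hab (MulAction.injective g e))
    have hna : n • a = g • a := hna
    have hnb : n • b = g • b := hnb
    have h1 : (n⁻¹ * g) • a = a := by rw [mul_smul, ← hna, inv_smul_smul]
    have h1' : (n⁻¹ * g) • b = b := by rw [mul_smul, ← hnb, inv_smul_smul]
    have h4 := hD (s * (n⁻¹ * g)) (H.invol_of_swap hab (by rw [mul_smul, h1, hsa]) (by rw [mul_smul, h1', hsb]))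
    have h5 := N.mul_mem hn (N.mul_mem (N.inv_mem hsN) h4)
    rwa [inv_mul_cancel_left, mul_inv_cancel_left] at h5
  rcases Cfsg.Lib.SuzUnique.simple_zassenhaus hZ with h | h
  · exact Or.inl h
  · exact Or.inr (Or.inl h)

end Cfsg.Lib.ConstFix
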