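import Cfsg.Agent.Lib.ConstFix.Even
import Cfsg.Agent.Lib.ZStar.Main
import Cfsg.Agent.S0205

/-!
# Constant fixity at most one: three fixed points give a regular normal subgroup
-/

set_option autoImplicit false
set_option linter.unusedSectionVars false
set_option linter.style.haveILetI false

namespace Cfsg.Lib.ConstFix

open MulAction Subgroup Cfsg.Lib

universe u w

variable {G : Type u} [Group G] [Finite G] {Ω : Type w} [Finite Ω] [MulAction G Ω] [FaithfulSMul G Ω]

theorem eq_one_of_all {g : G} (h : ∀ x : Ω, g • x = x) : g = 1 :=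
  FaithfulSMul.eq_of_smul_eq_smul fun x : Ω => by rw [h x, one_smul]

theorem transitive_of_normal (two : ∀ {p q r s : Ω}, p ≠ q → r ≠ s → ∃ g : G, g • p = r ∧ g • q = s)
    (M : Subgroup G) [M.Normal] (hM : M ≠ ⊥) (a p : Ω) : ∃ m ∈ M, m • a = p := by
  obtain ⟨m, hm, hma⟩ : ∃ m ∈ M, m • a ≠ a := by
    by_contra hc
    push Not at hc
    refine hM (eq_bot_iff.2 fun m hm => mem_bot.2 (eq_one_of_all (Ω := Ω) fun q => ?_))
    rcases eq_or_ne q a with rfl | hq
    · exact hc m hm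
    obtain ⟨g, hga, -⟩ := two hq.symm hq
    have h := hc _ ((inferInstance : M.Normal).conj_mem m hm g⁻¹)
    rw [inv_inv, mul_smul, mul_smul, hga, inv_smul_eq_iff, hga] at h
    exact h
  rcases eq_or_ne p a with rfl | hp
  · exact ⟨1, one_mem _, one_smul G _⟩
  obtain ⟨g, hga, hgp⟩ := two (Ne.symm hma) hp.symm
  refine ⟨g * m * g⁻¹, (inferInstance : M.Normal).conj_mem m hm g, ?_⟩
  rw [← hga, mul_smul, mul_smul, inv_smul_smul, hgp]

/-- A nontrivial solvable normal subgroup gives a regular normal subgroup. -/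
theorem regular_of_solvable (two : ∀ {p q r s : Ω}, p ≠ q → r ≠ s → ∃ g : G, g • p = r ∧ g • q = s)
    (O : Subgroup G) [O.Normal] (hO : O ≠ ⊥) (hs : Group.IsSolvable O) :
    ∃ R : Subgroup G, R.Normal ∧ (∀ x y : Ω, ∃ r ∈ R, r • x = y) ∧ ∀ x : Ω, ∀ r ∈ R, r • x = x → r = 1 := by
  classical
  obtain ⟨N, ⟨hN1, hN2, hN3⟩, hmin⟩ := Set.Finite.exists_minimal
    (Set.toFinite {N : Subgroup G | N.Normal ∧ N ≤ O ∧ N ≠ ⊥}) ⟨O, inferInstance, le_rfl, hO⟩
  haveI := hN1
  haveI : Group.IsSolvable ↥N := by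
    haveI := hs
    exact solvable_of_solvable_injective (inclusion_injective hN2)
  haveI : Nontrivial ↥N := (nontrivial_iff_ne_bot N).2 hN3
  have hlt : ⁅N, N⁆ < N := by
    have h := (IsSolvable.commutator_lt_top_of_nontrivial ↥N)
    refine lt_of_le_of_ne (commutator_le_left N N) fun e => h.ne ?_
    refine Subgroup.map_injective N.subtype_injective ?_
    rw [map_subtype_commutator, ← MonoidHom.range_eq_map, range_subtype]
    exact e
  have hbot : ⁅N, N⁆ = ⊥ := by
    by_contra hne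
    exact hlt.not_ge (hmin ⟨inferInstance, hlt.le.trans hN2, hne⟩ hlt.le)
  have hab : ∀ x ∈ N, ∀ y ∈ N, x * y = y * x := fun x hx y hy =>
    mem_centralizer_iff.1 ((Subgroup.commutator_eq_bot_iff_le_centralizer.1 hbot) hy) x hx
  have htr := fun a p => transitive_of_normal two N hN3 a p
  refine ⟨N, hN1, htr, fun x m hm hmx => eq_one_of_all (Ω := Ω) fun q => ?_⟩
  obtain ⟨l, hl, rfl⟩ := htr x q
  rw [← mul_smul, hab m hm l hl, mul_smul, hmx]

theorem even_of_no_fix {s : G} {S : Set Ω} (hs : ∀ x : Ω, s • s • x = x) (hS : ∀ x ∈ S, s • x ∈ S)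
    (hne : ∀ x ∈ S, s • x ≠ x) : 2 ∣ S.ncard := by
  classical
  letI := Fintype.ofFinite Ω
  rw [Set.ncard_eq_toFinset_card']
  have h : ∑ _x ∈ S.toFinset, (1 : ZMod 2) = 0 :=
    Finset.sum_involution (fun x _ => s • x) (fun _ _ => by decide) (fun x hx _ => hne x (Set.mem_toFinset.1 hx))
      (fun x hx => Set.mem_toFinset.2 (hS x (Set.mem_toFinset.1 hx))) fun x _ => hs x
  rw [Finset.sum_const, nsmul_one] at h
  exact (ZMod.natCast_eq_zero_iff_even.1 h).two_dvd

namespace Hyp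

variable {t : G} {i : ℕ}

theorem eq_of_fix (H : Hyp G Ω t i) (hi : i ≤ 1) {u : G} (hu : orderOf u = 2) {x y : Ω} (hx : u • x = x)
    (hy : u • y = y) : x = y :=
  (Set.ncard_le_one (Set.toFinite _)).1 ((H.transfer hu).fix_t.trans_le hi) x hx y hy

theorem no_comm (H : Hyp G Ω t i) (hi : i ≤ 1) {g : G} (hg : g ≠ 1) (hm : 2 ≤ (fixedBy Ω g).ncard) {u : G}
    (hu : orderOf u = 2) (hc : Commute u g) : False := by
  obtain ⟨x, hx, y, hy, hxy⟩ := (Set.one_lt_ncard (Set.toFinite (fixedBy Ω g))).1 (by omega)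
  obtain ⟨z, hz, huz⟩ : ∃ z ∈ fixedBy Ω g, u • z ≠ z := by
    by_contra h
    push Not at h
    exact hxy (H.eq_of_fix hi hu (h x hx) (h y hy))
  have h2 := (H.transfer hu).sq_of_moved hc.symm huz hz
  exact hxy (H.eq_of_fix hi (Invol.orderOf_eq_two_of hg h2) hx hy)

theorem ncard_swaps (H : Hyp G Ω t i) {x y : Ω} (hxy : x ≠ y) :
    {u : G | IsConj t u ∧ u • x = y}.ncard = Nat.card (pr G x y) := by
  have h := H.swap_count hxy
  rw [← H.card_cent, Nat.add_sub_cancel, mul_comm] at h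
  exact Nat.eq_of_mul_eq_mul_left Nat.card_pos h

theorem ncard_point (H : Hyp G Ω t i) (hi : i = 1) {a b : Ω} (hab : a ≠ b) :
    {u : G | IsConj t u ∧ u • a = a}.ncard = Nat.card (pr G a b) := by
  classical
  have h : {u : G | IsConj t u ∧ u • a = a}.ncard * Nat.card (centralizer ({t} : Set G)) =
      {x : Ω × Ω | x.1 ≠ x.2 ∧ t • x.1 = x.1}.ncard * Nat.card (pr G a b) := by
    rw [← conj_count t (fun u => u • a = a), Nat.card_congr (Equiv.subtypeEquivRight
      (q := fun g : G => (g⁻¹ • a, g⁻¹ • b) ∈ {x : Ω × Ω | t • x.1 = x.1}) fun g => ?_), H.pair_count hab]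
    · rfl
    · show (g * t * g⁻¹) • a = a ↔ t • g⁻¹ • a = g⁻¹ • a
      rw [eq_inv_smul_iff, ← mul_smul, ← mul_smul]
  obtain ⟨z, hz⟩ := Set.ncard_eq_one.1 (H.fix_t.trans hi)
  have e : {x : Ω × Ω | x.1 ≠ x.2 ∧ t • x.1 = x.1} = (fun y => (z, y)) '' ({z}ᶜ : Set Ω) := by
    ext ⟨x, y⟩
    constructor
    · rintro ⟨hne, hx⟩
      obtain rfl : x = z := hz.le hx
      exact ⟨y, fun e => hne (Set.mem_singleton_iff.1 e).symm, rfl⟩
    · rintro ⟨w, hw, he⟩
      obtain ⟨rfl, rfl⟩ := Prod.ext_iff.1 he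
      exact ⟨fun e => hw (Set.mem_singleton_iff.2 e.symm), mem_fixedBy.1 (hz.ge rfl)⟩
  have hc := H.card_cent
  rw [e, Set.ncard_image_of_injective _ (fun x y he => congrArg Prod.snd he), Set.ncard_compl, Set.ncard_singleton,
    ← hc, hi, Nat.add_sub_cancel, mul_comm] at h
  exact Nat.eq_of_mul_eq_mul_left Nat.card_pos h

/-- Three fixed points give a regular normal subgroup. -/
theorem regular_of_three (H : Hyp G Ω t i) (hi : i ≤ 1) {g : G} (hg : g ≠ 1) (hm : 3 ≤ (fixedBy Ω g).ncard) :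
    ∃ R : Subgroup G, R.Normal ∧ (∀ x y : Ω, ∃ r ∈ R, r • x = y) ∧ ∀ x : Ω, ∀ r ∈ R, r • x = x → r = 1 := by
  classical
  letI := Fintype.ofFinite Ω
  letI := Fintype.ofFinite G
  have hm2 : 2 ≤ (fixedBy Ω g).ncard := by omega
  set Φ := fixedBy Ω g with hΦ
  obtain ⟨a₀, ha₀, b₀, hb₀, hab₀⟩ := (Set.one_lt_ncard (Set.toFinite Φ)).1 (by omega)
  have hodd : ¬ 2 ∣ Nat.card (centralizer ({g} : Set G)) := by
    haveI : Fact (Nat.Prime 2) := ⟨Nat.prime_two⟩
    intro h
    obtain ⟨u, hu, huo⟩ := Fix4.exists_order_prime h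
    exact H.no_comm hi hg hm2 huo (mem_centralizer_singleton_iff.1 hu)
  have hmaps : ∀ s : G, s * g * s⁻¹ = g⁻¹ → ∀ x ∈ Φ, s • x ∈ Φ := fun s hs x hx => by
    have h1 : s • x ∈ fixedBy Ω (s * g * s⁻¹) := Fix4.mem_conj.2 (by rwa [inv_smul_smul])
    rwa [hs, fixedBy_inv] at h1
  have horb : orbit (centralizer ({g} : Set G)) a₀ = Φ := by
    ext y
    constructor
    · rintro ⟨c, rfl⟩
      exact Fix4.fix_comm (mem_centralizer_singleton_iff.1 c.2) ha₀
    · intro hy
      rcases eq_or_ne a₀ y with rfl | hne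
      · exact mem_orbit_self a₀
      obtain ⟨w, hw, hwa, hwy⟩ : ∃ w ∈ Φ, w ≠ a₀ ∧ w ≠ y := by
        by_contra hc
        push Not at hc
        have : Φ ⊆ {a₀, y} := fun w hw => by
          rcases eq_or_ne w a₀ with e | e
          · exact Or.inl e
          · exact Or.inr (hc w hw e)
        have := (Set.ncard_le_ncard this (Set.toFinite _)).trans (Set.ncard_insert_le _ _)
        rw [Set.ncard_singleton] at this
        omega
      obtain ⟨s, hs1, hs2, -⟩ := H.exists_swap hwa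
      obtain ⟨s', hs1', hs2', -⟩ := H.exists_swap hwy
      have i1 := H.inverts hwa hs1 hs2 hw ha₀
      have i2 := H.inverts hwy hs1' hs2' hw hy
      refine ⟨⟨s' * s, mem_centralizer_singleton_iff.2 ?_⟩, ?_⟩
      · have e : s' * s * g * (s' * s)⁻¹ = g := by
          rw [show s' * s * g * (s' * s)⁻¹ = s' * (s * g * s⁻¹) * s'⁻¹ by group, i1, ← conj_inv, i2, inv_inv]
        exact mul_inv_eq_iff_eq_mul.1 e
      · show (s' * s) • a₀ = y
        rw [mul_smul, hs2, hs1']
  have hmodd : ¬ 2 ∣ Φ.ncard := fun h => hodd (by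
    rw [← card_orbit_mul (centralizer ({g} : Set G)) a₀, horb]
    exact h.mul_right _)
  have hfixpt : ∀ s : G, orderOf s = 2 → s * g * s⁻¹ = g⁻¹ → ∃ x ∈ Φ, s • x = x := by
    intro s hso hs
    by_contra h
    push Not at h
    exact hmodd (even_of_no_fix (fun x => by rw [smul_smul, Invol.inv_mul_self hso, one_smul]) (hmaps s hs) h)
  obtain rfl : i = 1 := by
    refine le_antisymm hi (Nat.one_le_iff_ne_zero.2 fun h0 => ?_)
    obtain ⟨s, hsa, hsb, hso⟩ := H.exists_swap hab₀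
    obtain ⟨x, -, hx⟩ := hfixpt s hso (H.inverts hab₀ hsa hsb ha₀ hb₀)
    have h1 : (fixedBy Ω s).ncard = 0 := (H.transfer hso).fix_t.trans h0
    rw [Set.ncard_eq_zero] at h1
    exact Set.notMem_empty x (h1 ▸ hx)
  set I := {s : G | orderOf s = 2 ∧ s * g * s⁻¹ = g⁻¹} with hI
  set d := Nat.card (pr G a₀ b₀) with hd
  have hone : ∀ s ∈ I, (Φ.toFinset.filter fun x => s • x = x).card = 1 := by
    intro s hs
    obtain ⟨x, hx, hsx⟩ := hfixpt s hs.1 hs.2
    rw [show (Φ.toFinset.filter fun x => s • x = x) = {x} by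
      ext y
      simp only [Finset.mem_filter, Set.mem_toFinset, Finset.mem_singleton]
      exact ⟨fun hy => H.eq_of_fix hi hs.1 hy.2 hsx, fun e => e ▸ ⟨hx, hsx⟩⟩, Finset.card_singleton]
  have hswap : I.toFinset.card * (Φ.toFinset.card - 1) = Φ.toFinset.offDiag.card * d := by
    have h := Finset.sum_card_bipartiteAbove_eq_sum_card_bipartiteBelow
      (fun (s : G) (x : Ω × Ω) => s • x.1 = x.2) (s := I.toFinset) (t := Φ.toFinset.offDiag)
    rw [Finset.sum_const_nat (m := Φ.toFinset.card - 1) ?_, Finset.sum_const_nat (m := d) ?_] at h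
    · exact h
    · rintro ⟨x, y⟩ hxy
      obtain ⟨hx, hy, hne⟩ := Finset.mem_offDiag.1 hxy
      rw [Set.mem_toFinset] at hx hy
      rw [hd, ← H.card_pr hab₀ hne, ← H.ncard_swaps hne, Set.ncard_eq_toFinset_card']
      congr 1
      ext s
      simp only [Finset.mem_bipartiteBelow, Set.mem_toFinset]
      refine ⟨fun hs => ⟨H.isConj hs.1.1, hs.2⟩, fun hs => ⟨?_, hs.2⟩⟩
      obtain ⟨k, rfl⟩ := isConj_iff.1 hs.1
      have ho : orderOf (k * t * k⁻¹) = 2 := by rw [Invol.orderOf_conj_eq, H.inv]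
      exact ⟨ho, H.inverts hne hs.2 (by rw [← hs.2, smul_smul, Invol.inv_mul_self ho, one_smul]) hx hy⟩
    · intro s hs
      rw [Set.mem_toFinset] at hs
      rw [← hone s hs, show (Finset.bipartiteAbove (fun (s : G) (x : Ω × Ω) => s • x.1 = x.2) Φ.toFinset.offDiag s).card
        = (Φ.toFinset.filter fun x => ¬ s • x = x).card from
        Finset.card_nbij' Prod.fst (fun x => (x, s • x)) (fun p hp => by
          simp only [Finset.mem_coe, Finset.mem_bipartiteAbove, Finset.mem_offDiag, Finset.mem_filter] at hp ⊢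
          exact ⟨hp.1.1, fun e => hp.1.2.2 (e.symm.trans hp.2)⟩) (fun x hx => by
          simp only [Finset.mem_coe, Finset.mem_bipartiteAbove, Finset.mem_offDiag, Finset.mem_filter,
            Set.mem_toFinset, and_true] at hx ⊢
          exact ⟨hx.1, hmaps s hs.2 x hx.1, fun e => hx.2 e.symm⟩) (fun p hp => Prod.ext rfl (by
          simp only [Finset.mem_coe, Finset.mem_bipartiteAbove] at hp
          exact hp.2)) fun x _ => rfl]
      have := Finset.card_filter_add_card_filter_not (s := Φ.toFinset) (fun x => s • x = x)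
      omega
  rw [Finset.offDiag_card, ← Nat.mul_sub_one, mul_right_comm] at hswap
  have hm' : Φ.toFinset.card = Φ.ncard := (Set.ncard_eq_toFinset_card' Φ).symm
  have hIc : I.toFinset.card = Φ.toFinset.card * d :=
    Nat.eq_of_mul_eq_mul_right (by omega) hswap
  have hJle : ∀ a ∈ Φ.toFinset, (I.toFinset.filter fun s => s • a = a).card ≤ d := by
    intro a _
    obtain ⟨b, hb⟩ : ∃ b, a ≠ b := by
      rcases eq_or_ne a a₀ with e | e
      · exact ⟨b₀, e ▸ hab₀⟩
      · exact ⟨a₀, e⟩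
    rw [hd, ← H.card_pr hab₀ hb, ← H.ncard_point rfl hb, Set.ncard_eq_toFinset_card']
    refine Finset.card_le_card fun s hs => ?_
    rw [Finset.mem_filter, Set.mem_toFinset] at hs
    exact Set.mem_toFinset.2 ⟨H.isConj hs.1.1, hs.2⟩
  have hsum : ∑ a ∈ Φ.toFinset, (I.toFinset.filter fun s => s • a = a).card = ∑ _a ∈ Φ.toFinset, d := by
    rw [Finset.sum_const, smul_eq_mul, ← hIc]
    have h := Finset.sum_card_bipartiteAbove_eq_sum_card_bipartiteBelow
      (fun (s : G) (x : Ω) => s • x = x) (s := I.toFinset) (t := Φ.toFinset)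
    simp only [Finset.bipartiteAbove, Finset.bipartiteBelow] at h
    rw [Finset.sum_const_nat (m := 1) fun s hs => hone s (Set.mem_toFinset.1 hs), mul_one] at h
    exact h.symm
  have hall : ∀ a ∈ Φ, ∀ u : G, orderOf u = 2 → u • a = a → u * g * u⁻¹ = g⁻¹ := by
    intro a ha u hu hua
    have he := (Finset.sum_eq_sum_iff_of_le hJle).1 hsum a (Set.mem_toFinset.2 ha)
    obtain ⟨b, hb⟩ : ∃ b, a ≠ b := by
      rcases eq_or_ne a a₀ with e | e
      · exact ⟨b₀, e ▸ hab₀⟩
      · exact ⟨a₀, e⟩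
    have e : I.toFinset.filter (fun s => s • a = a) = {v : G | IsConj t v ∧ v • a = a}.toFinset := by
      refine Finset.eq_of_subset_of_card_le (fun s hs => ?_) (le_of_eq ?_)
      · rw [Finset.mem_filter, Set.mem_toFinset] at hs
        exact Set.mem_toFinset.2 ⟨H.isConj hs.1.1, hs.2⟩
      · rw [← Set.ncard_eq_toFinset_card', H.ncard_point rfl hb, H.card_pr hab₀ hb, he]
    have hmem : u ∈ I.toFinset.filter (fun s => s • a = a) := e ▸ Set.mem_toFinset.2 ⟨H.isConj hu, hua⟩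
    exact (Set.mem_toFinset.1 (Finset.mem_filter.1 hmem).1).2
  have hpair : ∀ j j' : G, orderOf j = 2 → orderOf j' = 2 → j • a₀ = a₀ → j' • a₀ = a₀ → Commute j j' → j = j' := by
    intro j j' hj hj' hja hja' hc
    by_contra hne
    have hjj : orderOf (j * j') = 2 := by
      refine Invol.orderOf_eq_two_of (fun e => hne ?_) ?_
      · rw [mul_eq_one_iff_eq_inv.1 e, Invol.inv_eq_self hj']
      · rw [hc.symm.mul_mul_mul_comm, Invol.inv_mul_self hj, Invol.inv_mul_self hj', one_mul]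
    refine H.no_comm hi hg hm2 hjj ?_
    have e : j * j' * g * (j * j')⁻¹ = g := by
      rw [show j * j' * g * (j * j')⁻¹ = j * (j' * g * j'⁻¹) * j⁻¹ by group, hall a₀ ha₀ j' hj' hja',
        ← conj_inv, hall a₀ ha₀ j hj hja, inv_inv]
    exact mul_inv_eq_iff_eq_mul.1 e
  obtain ⟨z, hz⟩ := Set.ncard_eq_one.1 H.fix_t
  have htz : t • z = z := mem_fixedBy.1 (hz.ge rfl)
  have hiso : IsIsolatedInvolution t := by
    refine ⟨H.inv, fun k hc => ?_⟩
    have hko : orderOf (k * t * k⁻¹) = 2 := by rw [Invol.orderOf_conj_eq, H.inv]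
    have huz : (k * t * k⁻¹) • z = z := hz.le (Fix4.fix_comm hc.symm htz)
    obtain ⟨w, hw⟩ : ∃ w, z ≠ w := by
      rcases eq_or_ne z a₀ with e | e
      · exact ⟨b₀, e ▸ hab₀⟩
      · exact ⟨a₀, e⟩
    obtain ⟨h, hh, -⟩ := H.two hw hab₀
    have hh' : h⁻¹ • a₀ = z := by rw [inv_smul_eq_iff, hh]
    have e := hpair (h * t * h⁻¹) (h * (k * t * k⁻¹) * h⁻¹) (by rw [Invol.orderOf_conj_eq, H.inv])
      (by rw [Invol.orderOf_conj_eq, hko]) (by rw [mul_smul, mul_smul, hh', htz, hh])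
      (by rw [mul_smul, mul_smul, hh', huz, hh]) ((Commute.conj_iff h).2 hc)
    exact (mul_left_cancel (mul_right_cancel e)).symm
  have hO : oddCore G ≠ ⊥ := by
    intro hO
    have hcen := ZStar.mem_center_of_isolated hO hiso
    have htop : centralizer ({t} : Set G) = ⊤ :=
      eq_top_iff.2 fun x _ => mem_centralizer_singleton_iff.2 (mem_center_iff.1 hcen x)
    have h1 := H.card_cent
    rw [htop, Subgroup.card_top, H.card_group hab₀] at h1
    have h2 : Φ.ncard ≤ Nat.card Ω := (Set.ncard_le_ncard (Set.subset_univ Φ)).trans_eq (Set.ncard_univ Ω)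
    have h3 : Nat.card Ω * 2 ≤ Nat.card Ω * ((Nat.card Ω - 1) * Nat.card (pr G a₀ b₀)) :=
      Nat.mul_le_mul_left _ (le_trans (by omega) (Nat.le_mul_of_pos_right _ Nat.card_pos))
    omega
  haveI : (oddCore G).Normal := by unfold Cfsg.oddCore; infer_instance
  exact regular_of_solvable H.two _ hO (Cfsg.Agent.S0205.result ZStar.odd_card_oddCore)

end Hyp

end Cfsg.Lib.ConstFix
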